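set_option autoImplicit false
namespace Cfsg.Agent.Lib.Helper6.TCD.S82aL
noncomputable def HL0 (i : Nat) : Nat := Nat.land (Nat.shiftRight 0x1711001631001541001541001541001441001451001451001451001351001361001381001351001361001351001361001251001261001271001281001251001261001271001261001271001151001161001171001121001181001181001161001161001171001131001161001171001131001061001061001071001031001081001081001061001081001071001071001041001071001041000f61000f71000f71000f41000f81000f61000f81000f81000f71000f41000f71000f51000f71000f51000e61000e71000e41000e71000e51000e81000e81000e71000e81000e71000e51000e61000e61000d61000d71000d71000d51000d61000d81000d81000d71000d51000d81000d61000d21000d11000c71000c71000c51000c61000c11000c81000c71000c81000c61000c31000b71000b51000b71000b61000b31000b81000b61000b41000a71000a61000a61000a41000a81000a51000971000961000941000951000901000871000861000851000821000761000751000731000651000641000541000511000431000321000201000181000001 (Nat.mul 24 (Nat.land i 1023))) 16777215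
end Cfsg.Agent.Lib.Helper6.TCD.S82aL
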