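set_option autoImplicit false
namespace Cfsg.Agent.Lib.Helper6.TCD.S82aL
noncomputable def HL1 (i : Nat) : Nat := Nat.land (Nat.shiftRight 0x1011000f31000e41000c41000c41000d41000d51000b51000b51000c51000c61000951000a51000a61000a51000a61000b51000b61000b71000861000b51000961000971000961000971000c51000a61000a71000a21000761000771000a61000861000871000831000861000871000831000b61000961000971000931000661000671000961000641000971000771000741000771000741000a61000a71000871000841000571000a61000571000551000871000841000671000651000671000651000b61000971000941000771000751000471000451000971000461000771000751000561000561000c61000a71000871000851000661000371000361000871000851000331000661000411000421000b71000971000951000761000501000261000971000241000761000521000a71000a51000a71000861000601000151000861000631000b71000961000961000731000001000741000c71000a61000821000841000851000d71000b61000941000951000c61000a31000a51000b11000b51000c51000c41000d41000e31000f21001001000000 (Nat.mul 24 (Nat.land i 1023))) 16777215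
end Cfsg.Agent.Lib.Helper6.TCD.S82aL
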