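set_option autoImplicit false
namespace Cfsg.Agent.Lib.Helper6.TCD.S82aL
noncomputable def HL2 (i : Nat) : Nat := Nat.land (Nat.shiftRight 0xa51000000000000000a51000000000a51000000000951000961000a51000000000951000961000951000961000000000851000861000821000951000961000851000851000861000831000851000861000831000751000751000761000731000a51000861000751000841000761000761000741000761000741000651000661000661000641000961000651000000000721000661000641000000000621000000000611000551000561000541000000000511000000000831000561000000000000000531000000000000000451000461000000000431000000000000000000000000000401000000000000000000000000000361000000000321000000000000000000000000000000000000000000000000000271000000000000000000000000000000000000000000000000000000000000000000000000000000000000000000000000000801000000000000000000000721000000000000000631000000000541000441000411000331000221000101000001000000 (Nat.mul 24 (Nat.land i 1023))) 16777215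
end Cfsg.Agent.Lib.Helper6.TCD.S82aL
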