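set_option autoImplicit false
namespace Cfsg.Agent.Lib.Helper6.TCD.S82aL
noncomputable def HL3 (i : Nat) : Nat := Nat.land (Nat.shiftRight 0x641000000000641000000000000000000000641000000000541000551000541000551000000000000000000000000000541000551000441000441000451000421000441000451000421000000000000000000000000000641000451000341000431000351000351000331000351000331000000000000000000000000000551000241000000000311000251000231000000000211000000000201000000000000000000000000000000000000000421000151000000000000000121000000000000000000000000000000000000000000000000000000000000000001000000000000000000000000000000000000000000000000000000000000000000000000000000000000000000000000000000000000000000000000000000000000000000000000000000000000000000000000000000000000000000000000000000000000000000000000000000000000000000000000000000000000000000000000000000000000000000000000000000 (Nat.mul 24 (Nat.land i 1023))) 16777215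
end Cfsg.Agent.Lib.Helper6.TCD.S82aL
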