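import Cfsg.Agent.Lib.Helper6.LB1
import Cfsg.Agent.Lib.Helper6.TCD.S82aL.Lv
set_option autoImplicit false
set_option maxRecDepth 1000000
set_option Elab.async false
open Cfsg.Agent.Lib.Helper6.TC
namespace Cfsg.Agent.Lib.Helper6.TCD.S82aL
open Cfsg.Agent.Lib.Helper6.TCD.S82a
theorem chkOrbL4 : chkOrb labL4 rnkL4 mvL4 2 136 = true := by decide +kernel
theorem cntL4 : cntLab labL4 1 136 = 16 := by decide +kernel
theorem fixL4_0_0 : Nat.beq (WL4_0 0) 0 = true := by decide +kernel
theorem fixL4_0_1 : Nat.beq (WL4_0 22) 22 = true := by decide +kernel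
theorem fixL4_0_2 : Nat.beq (WL4_0 1) 1 = true := by decide +kernel
theorem fixL4_0_3 : Nat.beq (WL4_0 49) 49 = true := by decide +kernel
theorem fixL4_1_0 : Nat.beq (WL4_1 0) 0 = true := by decide +kernel
theorem fixL4_1_1 : Nat.beq (WL4_1 22) 22 = true := by decide +kernel
theorem fixL4_1_2 : Nat.beq (WL4_1 1) 1 = true := by decide +kernel
theorem fixL4_1_3 : Nat.beq (WL4_1 49) 49 = true := by decide +kernel
theorem fixL4_2_0 : Nat.beq (WL4_2 0) 0 = true := by decide +kernel
theorem fixL4_2_1 : Nat.beq (WL4_2 22) 22 = true := by decide +kernel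
theorem fixL4_2_2 : Nat.beq (WL4_2 1) 1 = true := by decide +kernel
theorem fixL4_2_3 : Nat.beq (WL4_2 49) 49 = true := by decide +kernel
theorem fixL4_3_0 : Nat.beq (WL4_3 0) 0 = true := by decide +kernel
theorem fixL4_3_1 : Nat.beq (WL4_3 22) 22 = true := by decide +kernel
theorem fixL4_3_2 : Nat.beq (WL4_3 1) 1 = true := by decide +kernel
theorem fixL4_3_3 : Nat.beq (WL4_3 49) 49 = true := by decide +kernel
theorem fixL4_4_0 : Nat.beq (WL4_4 0) 0 = true := by decide +kernel
theorem fixL4_4_1 : Nat.beq (WL4_4 22) 22 = true := by decide +kernel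
theorem fixL4_4_2 : Nat.beq (WL4_4 1) 1 = true := by decide +kernel
theorem fixL4_4_3 : Nat.beq (WL4_4 49) 49 = true := by decide +kernel
theorem fixL4_5_0 : Nat.beq (WL4_5 0) 0 = true := by decide +kernel
theorem fixL4_5_1 : Nat.beq (WL4_5 22) 22 = true := by decide +kernel
theorem fixL4_5_2 : Nat.beq (WL4_5 1) 1 = true := by decide +kernel
theorem fixL4_5_3 : Nat.beq (WL4_5 49) 49 = true := by decide +kernel
theorem fixL4_6_0 : Nat.beq (WL4_6 0) 0 = true := by decide +kernel
theorem fixL4_6_1 : Nat.beq (WL4_6 22) 22 = true := by decide +kernel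
theorem fixL4_6_2 : Nat.beq (WL4_6 1) 1 = true := by decide +kernel
theorem fixL4_6_3 : Nat.beq (WL4_6 49) 49 = true := by decide +kernel
end Cfsg.Agent.Lib.Helper6.TCD.S82aL
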