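import Cfsg.Agent.Lib.Helper6.LB1
import Cfsg.Agent.Lib.Helper6.TCD.S82aL.Lv
set_option autoImplicit false
set_option maxRecDepth 1000000
set_option Elab.async false
open Cfsg.Agent.Lib.Helper6.TC
namespace Cfsg.Agent.Lib.Helper6.TCD.S82aL
open Cfsg.Agent.Lib.Helper6.TCD.S82a
theorem chkOrbL6 : chkOrb labL6 rnkL6 mvL6 5 136 = true := by decide +kernel
theorem cntL6 : cntLab labL6 1 136 = 4 := by decide +kernel
theorem fixL6_0_0 : Nat.beq (WL6_0 0) 0 = true := by decide +kernel
theorem fixL6_0_1 : Nat.beq (WL6_0 22) 22 = true := by decide +kernel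
theorem fixL6_0_2 : Nat.beq (WL6_0 1) 1 = true := by decide +kernel
theorem fixL6_0_3 : Nat.beq (WL6_0 49) 49 = true := by decide +kernel
theorem fixL6_0_4 : Nat.beq (WL6_0 2) 2 = true := by decide +kernel
theorem fixL6_0_5 : Nat.beq (WL6_0 44) 44 = true := by decide +kernel
theorem fixL6_1_0 : Nat.beq (WL6_1 0) 0 = true := by decide +kernel
theorem fixL6_1_1 : Nat.beq (WL6_1 22) 22 = true := by decide +kernel
theorem fixL6_1_2 : Nat.beq (WL6_1 1) 1 = true := by decide +kernel
theorem fixL6_1_3 : Nat.beq (WL6_1 49) 49 = true := by decide +kernel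
theorem fixL6_1_4 : Nat.beq (WL6_1 2) 2 = true := by decide +kernel
theorem fixL6_1_5 : Nat.beq (WL6_1 44) 44 = true := by decide +kernel
theorem fixL6_2_0 : Nat.beq (WL6_2 0) 0 = true := by decide +kernel
theorem fixL6_2_1 : Nat.beq (WL6_2 22) 22 = true := by decide +kernel
theorem fixL6_2_2 : Nat.beq (WL6_2 1) 1 = true := by decide +kernel
theorem fixL6_2_3 : Nat.beq (WL6_2 49) 49 = true := by decide +kernel
theorem fixL6_2_4 : Nat.beq (WL6_2 2) 2 = true := by decide +kernel
theorem fixL6_2_5 : Nat.beq (WL6_2 44) 44 = true := by decide +kernel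
end Cfsg.Agent.Lib.Helper6.TCD.S82aL
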