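import Cfsg.Agent.Lib.Helper6.LB1
import Cfsg.Agent.Lib.Helper6.TCD.S82aL.Lv
set_option autoImplicit false
set_option maxRecDepth 1000000
set_option Elab.async false
open Cfsg.Agent.Lib.Helper6.TC
namespace Cfsg.Agent.Lib.Helper6.TCD.S82aL
open Cfsg.Agent.Lib.Helper6.TCD.S82a
theorem chkOrbL7 : chkOrb labL7 rnkL7 mvL7 3 136 = true := by decide +kernel
theorem cntL7 : cntLab labL7 1 136 = 2 := by decide +kernel
theorem fixL7_0_0 : Nat.beq (WL7_0 0) 0 = true := by decide +kernel
theorem fixL7_0_1 : Nat.beq (WL7_0 22) 22 = true := by decide +kernel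
theorem fixL7_0_2 : Nat.beq (WL7_0 1) 1 = true := by decide +kernel
theorem fixL7_0_3 : Nat.beq (WL7_0 49) 49 = true := by decide +kernel
theorem fixL7_0_4 : Nat.beq (WL7_0 2) 2 = true := by decide +kernel
theorem fixL7_0_5 : Nat.beq (WL7_0 44) 44 = true := by decide +kernel
theorem fixL7_0_6 : Nat.beq (WL7_0 5) 5 = true := by decide +kernel
end Cfsg.Agent.Lib.Helper6.TCD.S82aL
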